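import Mathlib
import Cfsg.Agent.H756.HM.Stmts
import Cfsg.Agent.H802.FusNorm
import Cfsg.Agent.H802.FusCentric
import Cfsg.Agent.H869.SP.Mod

/-!
# S5175, SP1: basic facts on the configuration
-/

set_option autoImplicit false

namespace Cfsg.Agent.H869.SP

open Cfsg Cfsg.FusionSystem Cfsg.Agent.H756.HM Cfsg.Agent.H802
open Matrix (SpecialLinearGroup)

universe u

variable {Ω : Type u} [Group Ω] {S : Subgroup Ω}

theorem mem_cj {x g : Ω} {V : Subgroup Ω} : g ∈ cj x V ↔ x⁻¹ * g * x ∈ V := by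
  constructor
  · rintro ⟨v, hv, rfl⟩
    simpa [mul_assoc] using hv
  · intro h
    exact ⟨_, h, by simp [mul_assoc]⟩

theorem cj_mem {x g : Ω} {V : Subgroup Ω} (h : g ∈ V) : x * g * x⁻¹ ∈ cj x V := ⟨g, h, rfl⟩

theorem mem_fixS {V : Subgroup Ω} {E : Subgroup (MulAut V)} (v : V) :
    (v : Ω) ∈ fixS V E ↔ ∀ e ∈ E, e v = v := by
  constructor
  · rintro ⟨w, hw, h⟩
    have : w = v := Subtype.ext h
    rw [← this]
    exact hw
  · intro h
    exact ⟨v, h, rfl⟩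

theorem fixS_le {V : Subgroup Ω} {E : Subgroup (MulAut V)} : fixS V E ≤ V := by
  rintro _ ⟨w, -, rfl⟩
  exact w.2

theorem comm_of_sq {G : Type*} [Group G] {A : Subgroup G} (h : ∀ a ∈ A, a ^ 2 = 1) : ∀ a ∈ A, ∀ b ∈ A, a * b = b * a := by
  intro a ha b hb
  have h1 := h a ha
  have h2 := h b hb
  have h3 := h _ (A.mul_mem ha hb)
  rw [pow_two] at h1 h2 h3
  have ha' : a⁻¹ = a := inv_eq_of_mul_eq_one_left h1
  have hb' : b⁻¹ = b := inv_eq_of_mul_eq_one_left h2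
  have : (a * b)⁻¹ = a * b := inv_eq_of_mul_eq_one_left h3
  rw [mul_inv_rev, ha', hb'] at this
  exact this.symm

section
variable {F : FusionSystem S} {K : Type} [Field K] [Fintype K] {V T : Subgroup Ω} {x : Ω} (c : Conf F K V T x)
include c

theorem Vcomm : ∀ a ∈ V, ∀ b ∈ V, a * b = b * a := comm_of_sq c.el

theorem T_le : T ≤ S := by rw [← c.nor]; exact inf_le_left

theorem T_nV {t : Ω} (ht : t ∈ T) : t ∈ Subgroup.normalizer (V : Set Ω) := by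
  rw [← c.nor] at ht
  exact ht.2

theorem T_conj {t v : Ω} (ht : t ∈ T) (hv : v ∈ V) : t * v * t⁻¹ ∈ V :=
  (Subgroup.mem_normalizer_iff.1 (T_nV c ht) v).1 hv

theorem V_le_T : V ≤ T := by
  rw [← c.nor]
  exact le_normalizerIn c.V_le

theorem x_conj {t : Ω} (ht : t ∈ T) : x * t * x⁻¹ ∈ T := (Subgroup.mem_normalizer_iff.1 c.x_nor t).1 ht

theorem xi_conj {t : Ω} (ht : t ∈ T) : x⁻¹ * t * x ∈ T := by
  have := (Subgroup.mem_normalizer_iff.1 ((Subgroup.normalizer (T : Set Ω)).inv_mem c.x_nor) t).1 ht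
  simpa using this

theorem W_le_T : cj x V ≤ T := by
  rintro _ ⟨v, hv, rfl⟩
  exact x_conj c (V_le_T c hv)

theorem T_conjW {t w : Ω} (ht : t ∈ T) (hw : w ∈ cj x V) : t * w * t⁻¹ ∈ cj x V := by
  rw [mem_cj] at hw ⊢
  have h1 := T_conj c (xi_conj c ht) hw
  have : x⁻¹ * t * x * (x⁻¹ * w * x) * (x⁻¹ * t * x)⁻¹ = x⁻¹ * (t * w * t⁻¹) * x := by group
  rwa [this] at h1

theorem x_conjW {w : Ω} (hw : w ∈ cj x V) : x * w * x⁻¹ ∈ V := by
  rw [mem_cj] at hw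
  have h1 := T_conj c c.x_sq hw
  have : x ^ 2 * (x⁻¹ * w * x) * (x ^ 2)⁻¹ = x * w * x⁻¹ := by group
  rwa [this] at h1

theorem Wsq : ∀ a ∈ cj x V, a ^ 2 = 1 := by
  rintro _ ⟨v, hv, rfl⟩
  show (x * v * x⁻¹) ^ 2 = 1
  rw [conj_pow, c.el v hv]
  simp

theorem Wcomm : ∀ a ∈ cj x V, ∀ b ∈ cj x V, a * b = b * a := comm_of_sq (Wsq c)

theorem mem_V_of_comm {g : Ω} (hg : g ∈ S) (h : ∀ v ∈ V, g * v = v * g) : g ∈ V := by
  have : g ∈ centralizerIn S V := ⟨hg, Subgroup.mem_centralizer_iff.2 fun v hv => (h v hv).symm⟩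
  rwa [c.cent] at this

theorem mem_W_of_comm {g : Ω} (hg : g ∈ S) (h : ∀ v ∈ cj x V, g * v = v * g) : g ∈ cj x V := by
  rw [mem_cj]
  apply mem_V_of_comm c (S.mul_mem (S.mul_mem (S.inv_mem c.x_mem) hg) c.x_mem)
  intro v hv
  have h1 := h _ (cj_mem (x := x) hv)
  calc x⁻¹ * g * x * v = x⁻¹ * (g * (x * v * x⁻¹)) * x := by group
    _ = x⁻¹ * (x * v * x⁻¹ * g) * x := by rw [h1]
    _ = _ := by group

/-- `[T, V] ≤ Z` restricted to `W` -/
theorem comm_mem {a v : Ω} (ha : a ∈ cj x V) (hv : v ∈ V) : a * v * a⁻¹ * v⁻¹ ∈ V ⊓ cj x V := by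
  refine ⟨V.mul_mem (T_conj c (W_le_T c ha) hv) (V.inv_mem hv), ?_⟩
  have h1 := T_conjW c (V_le_T c hv) ((cj x V).inv_mem ha)
  have : a * v * a⁻¹ * v⁻¹ = a * (v * a⁻¹ * v⁻¹) := by group
  rw [this]
  exact (cj x V).mul_mem ha h1

/-- elements of `V ⊓ W` commute with `T` -/
theorem Z_comm (hT : T = V ⊔ cj x V) {z : Ω} (hz : z ∈ V ⊓ cj x V) : ∀ t ∈ T, t * z = z * t := by
  intro t ht
  have : T ≤ Subgroup.centralizer {z} := by
    rw [hT]
    refine sup_le ?_ ?_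
    · intro v hv
      exact Subgroup.mem_centralizer_singleton_iff.2 (Vcomm c v hv z hz.1)
    · intro v hv
      exact Subgroup.mem_centralizer_singleton_iff.2 (Wcomm c v hv z hz.2)
  exact Subgroup.mem_centralizer_singleton_iff.1 (this ht)

theorem T_decomp (hT : T = V ⊔ cj x V) {t : Ω} (ht : t ∈ T) : ∃ v ∈ V, ∃ a ∈ cj x V, t = v * a := by
  rw [hT] at ht
  refine Subgroup.closure_induction (p := fun t _ => ∃ v ∈ V, ∃ a ∈ cj x V, t = v * a) ?_ ?_ ?_ ?_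
    (show t ∈ Subgroup.closure ((V : Set Ω) ∪ (cj x V : Subgroup Ω)) by
      rwa [Subgroup.closure_union, Subgroup.closure_eq, Subgroup.closure_eq])
  · rintro y (hy | hy)
    · exact ⟨y, hy, 1, Subgroup.one_mem _, by simp⟩
    · exact ⟨1, Subgroup.one_mem _, y, hy, by simp⟩
  · exact ⟨1, Subgroup.one_mem _, 1, Subgroup.one_mem _, by simp⟩
  · rintro _ _ _ _ ⟨v, hv, a, ha, rfl⟩ ⟨v', hv', a', ha', rfl⟩
    exact ⟨v * (a * v' * a⁻¹), V.mul_mem hv (T_conj c (W_le_T c ha) hv'), a * a',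
      Subgroup.mul_mem _ ha ha', by group⟩
  · rintro _ _ ⟨v, hv, a, ha, rfl⟩
    exact ⟨a⁻¹ * v⁻¹ * a⁻¹⁻¹, T_conj c (W_le_T c ((cj x V).inv_mem ha)) (V.inv_mem hv), a⁻¹,
      Subgroup.inv_mem _ ha, by group⟩

end

/-- a normalised version of `ρ`, `ψ` -/
structure Frm {F : FusionSystem S} {K : Type} [Field K] [Fintype K] {V T : Subgroup Ω} {x : Ω}
    (c : Conf F K V T x) where
  ρ : c.E ≃* SpecialLinearGroup (Fin 2) K
  ψ : V →* Multiplicative (Fin 2 → K)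
  surj : Function.Surjective ψ
  ker : ∀ v : V, ψ v = 1 ↔ (v : Ω) ∈ fixS V c.E
  eq : ∀ (e : c.E) (v : V), Multiplicative.toAdd (ψ ((e : MulAut V) v)) =
    ((ρ e : SpecialLinearGroup (Fin 2) K) : Matrix (Fin 2) (Fin 2) K).mulVec (Multiplicative.toAdd (ψ v))
  up : ∀ a ∈ cj x V, ∃ t : K, ∀ v : V, (((ρ.symm (up t) : MulAut V) v : V) : Ω) = a * v * a⁻¹
  dn : ∀ t : K, ∃ a ∈ cj x V, ∀ v : V, (((ρ.symm (SP.up t) : MulAut V) v : V) : Ω) = a * v * a⁻¹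

theorem exists_frm {F : FusionSystem S} {K : Type} [Field K] [Fintype K] {V T : Subgroup Ω} {x : Ω}
    (c : Conf F K V T x) : Nonempty (Frm c) := by
  classical
  set A₀ : Subgroup c.E := (autInducedBy (cj x V) V).subgroupOf c.E with hA₀
  set A : Subgroup (SpecialLinearGroup (Fin 2) K) := A₀.map c.ρ.toMonoidHom with hA
  have hcard : Nat.card A = Fintype.card K := by
    rw [← c.A_card]
    have h1 : Nat.card A = Nat.card A₀ :=
      Subgroup.card_map_of_injective c.ρ.injective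
    have h2 : Nat.card A₀ = Nat.card (autInducedBy (cj x V) V) :=
      Nat.card_congr (Subgroup.subgroupOfEquivOfLe c.A_le).toEquiv
    rw [h1, h2]
  obtain ⟨M, hM1, hM2⟩ := exists_conj_up c.hn c.hK A hcard
  refine ⟨⟨c.ρ.trans (MulAut.conj M⁻¹), 
    { toFun := fun v => Multiplicative.ofAdd
        (((M⁻¹ : SpecialLinearGroup (Fin 2) K) : Matrix (Fin 2) (Fin 2) K).mulVec (Multiplicative.toAdd (c.ψ v)))
      map_one' := by simp
      map_mul' := fun a b => by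
        rw [map_mul, toAdd_mul, Matrix.mulVec_add, ofAdd_add] }, ?_, ?_, ?_, ?_, ?_⟩⟩
  · intro p
    obtain ⟨v, hv⟩ := c.ψ_surj (Multiplicative.ofAdd ((M : Matrix (Fin 2) (Fin 2) K).mulVec (Multiplicative.toAdd p)))
    refine ⟨v, ?_⟩
    show Multiplicative.ofAdd (((M⁻¹ : SpecialLinearGroup (Fin 2) K) : Matrix (Fin 2) (Fin 2) K).mulVec
      (Multiplicative.toAdd (c.ψ v))) = p
    rw [hv, toAdd_ofAdd, Matrix.mulVec_mulVec, ← Matrix.SpecialLinearGroup.coe_mul, inv_mul_cancel,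
      Matrix.SpecialLinearGroup.coe_one, Matrix.one_mulVec]
    rfl
  · intro v
    rw [← c.ψ_ker]
    show Multiplicative.ofAdd (((M⁻¹ : SpecialLinearGroup (Fin 2) K) : Matrix (Fin 2) (Fin 2) K).mulVec
      (Multiplicative.toAdd (c.ψ v))) = 1 ↔ _
    constructor
    · intro h
      have h1 : ((M⁻¹ : SpecialLinearGroup (Fin 2) K) : Matrix (Fin 2) (Fin 2) K).mulVec
        (Multiplicative.toAdd (c.ψ v)) = 0 := h
      have h2 := congrArg (fun p => (M : Matrix (Fin 2) (Fin 2) K).mulVec p) h1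
      simp only [Matrix.mulVec_zero] at h2
      rw [Matrix.mulVec_mulVec, ← Matrix.SpecialLinearGroup.coe_mul, mul_inv_cancel,
        Matrix.SpecialLinearGroup.coe_one, Matrix.one_mulVec] at h2
      exact h2
    · intro h
      rw [h]
      simp
  · intro e v
    show ((M⁻¹ : SpecialLinearGroup (Fin 2) K) : Matrix (Fin 2) (Fin 2) K).mulVec
        (Multiplicative.toAdd (c.ψ ((e : MulAut V) v))) =
      ((M⁻¹ * c.ρ e * M⁻¹⁻¹ : SpecialLinearGroup (Fin 2) K) : Matrix (Fin 2) (Fin 2) K).mulVec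
        (((M⁻¹ : SpecialLinearGroup (Fin 2) K) : Matrix (Fin 2) (Fin 2) K).mulVec (Multiplicative.toAdd (c.ψ v)))
    rw [c.ψ_eq, Matrix.mulVec_mulVec, Matrix.mulVec_mulVec, ← Matrix.SpecialLinearGroup.coe_mul,
      ← Matrix.SpecialLinearGroup.coe_mul]
    have : M⁻¹ * c.ρ e * M⁻¹⁻¹ * M⁻¹ = M⁻¹ * c.ρ e := by simp [mul_assoc]
    rw [this]
  · intro a ha
    obtain ⟨α, hα⟩ := exists_conjAut (T_nV c (W_le_T c ha))
    have hαA : α ∈ autInducedBy (cj x V) V := (mem_autInducedBy_iff _ _ _).2 ⟨a, ha, hα⟩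
    have hαE : α ∈ c.E := c.A_le hαA
    obtain ⟨t, ht⟩ := hM1 (c.ρ ⟨α, hαE⟩) ⟨⟨α, hαE⟩, hαA, rfl⟩
    refine ⟨t, fun v => ?_⟩
    have : (c.ρ.trans (MulAut.conj M⁻¹)).symm (SP.up t) = ⟨α, hαE⟩ := by
      rw [MulEquiv.symm_apply_eq, ← ht]
      show M⁻¹ * c.ρ ⟨α, hαE⟩ * M = M⁻¹ * c.ρ ⟨α, hαE⟩ * M⁻¹⁻¹
      rw [inv_inv]
    rw [this]
    exact hα v
  · intro t
    obtain ⟨e, he, het⟩ := hM2 t
    obtain ⟨a, ha, hae⟩ := (mem_autInducedBy_iff _ _ _).1 (show (e : MulAut V) ∈ autInducedBy (cj x V) V from he)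
    refine ⟨a, ha, fun v => ?_⟩
    have : (c.ρ.trans (MulAut.conj M⁻¹)).symm (SP.up t) = e := by
      rw [MulEquiv.symm_apply_eq]
      show SP.up t = M⁻¹ * c.ρ e * M⁻¹⁻¹
      have h2 : c.ρ e = M * SP.up t * M⁻¹ := het
      rw [h2]
      group
    rw [this]
    exact hae v

end Cfsg.Agent.H869.SP
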