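import Mathlib
import Cfsg.Agent.H869.SP.Sw
import Cfsg.Agent.H124.SP.Defs

/-!
# S5175, SP1: the final coordinates
-/

set_option autoImplicit false

namespace Cfsg.Agent.H869.SP

open Cfsg Cfsg.FusionSystem Cfsg.Agent.H756.HM Cfsg.Agent.H802 Cfsg.Agent.H124.SP
open Matrix (SpecialLinearGroup)

universe u

variable {Ω : Type u} [Group Ω] {S : Subgroup Ω}
  {F : FusionSystem S} {K : Type} [Field K] [Fintype K] {V T : Subgroup Ω} {x : Ω}

/-- the elements of `E` in coordinates -/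
def SlAct {θ : K ≃+* K} (co : SpCo S T V K θ) (g : SpecialLinearGroup (Fin 2) K) (e : MulAut V) : Prop :=
  ∀ (u v w : K) (h : co.xb u * co.xc v * co.xd w ∈ V),
    ((e ⟨co.xb u * co.xc v * co.xd w, h⟩ : V) : Ω) = co.xb (g 1 0 ^ 2 * w + g 1 1 ^ 2 * u) *
      co.xc (v + (g 0 0 * g 1 0 * w + g 0 1 * g 1 1 * u)) * co.xd (g 0 0 ^ 2 * w + g 0 1 ^ 2 * u)

theorem exists_co [Finite S] (hS : IsPGroup 2 S) (hF : F.IsSaturated 2) (b : Big F K V T x)
    (hD : Nat.card (fixS V b.E) = Fintype.card K) (hcom : comS V b.E = V) :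
    ∃ (θ : K ≃+* K) (_ : ∀ t, θ (θ t) = t ^ 2) (co : SpCo S T V K θ) (fm : Frm b.toConf),
      (∃ t ∈ T, co.y = t * x) ∧ (∀ v, co.xc v ∈ fixS V b.E) ∧ (∀ w, co.xd w ∈ cj x (fixS V b.E)) ∧
      (∀ t, co.xa t ∈ cj x V) ∧
      (∀ (t : K) (v : V), (((fm.ρ.symm (up (t ^ 2)) : MulAut V) v : V) : Ω) = co.xa t * v * (co.xa t)⁻¹) ∧
      ∀ g, SlAct co g (fm.ρ.symm ((@fr K _ (charTwo_of b.toConf)) g) : MulAut V) := by
  classical
  set c : Conf F K V T x := b.toConf with hcdef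
  have hch : CharP K 2 := charTwo_of c
  have hT : T = V ⊔ cj x V := b.T_eq
  have hfinV : Finite V := finite_of_le c.V_le
  obtain ⟨fm⟩ := exists_frm c
  obtain ⟨σ, δ, hσ, hδ, hσψ, hδD, hσ0, hform, hδs, hδi, hσs⟩ :=
    exists_coordsV hS hF c hT b.E_nor b.q4 fm hD hcom
  obtain ⟨s, hsS, hsT, hss, hsV, hsW, hsD, hcjs, ht0⟩ := exists_inv_swap c hT fm hD
  have hsi : s⁻¹ = s := inv_eq_of_mul_eq_one_left hss
  have hsss : ∀ g, s * (s * g * s) * s = g := fun g => by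
    calc s * (s * g * s) * s = (s * s) * g * (s * s) := by group
      _ = g := by rw [hss, one_mul, mul_one]
  have hc : ∀ a b : V, a * b = b * a := fun a b => Subtype.ext (Vcomm c a a.2 b b.2)
  have hsq : Function.Surjective (fun a : K => a ^ 2) := by
    apply Finite.surjective_of_injective
    intro a b hab
    have : frobenius K 2 a = frobenius K 2 b := by rw [frobenius_def, frobenius_def]; exact hab
    exact frobenius_inj K 2 this
  have hsq' : ∀ a b : K, a ^ 2 = b ^ 2 → a = b := fun a b hab => by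
    have : frobenius K 2 a = frobenius K 2 b := by rw [frobenius_def, frobenius_def]; exact hab
    exact frobenius_inj K 2 this
  -- `β`
  have hβex : ∀ u : K, ∃ t : K, ∀ v : V, (((fm.ρ.symm (up (t ^ 2)) : MulAut V) v : V) : Ω) =
      (s * (σ 0 u : Ω) * s) * v * (s * (σ 0 u : Ω) * s)⁻¹ := by
    intro u
    obtain ⟨t, ht⟩ := fm.up _ (hsV _ (σ 0 u).2)
    obtain ⟨t', rfl⟩ := hsq t
    exact ⟨t', ht⟩
  choose β hβ using hβex
  have huniq : ∀ t t' : K, (∀ v : V, (fm.ρ.symm (up (t ^ 2)) : MulAut V) v = (fm.ρ.symm (up (t' ^ 2)) : MulAut V) v) →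
      t = t' := by
    intro t t' h
    have h1 : fm.ρ.symm (up (t ^ 2)) = fm.ρ.symm (up (t' ^ 2)) := Subtype.ext (MulEquiv.ext h)
    exact hsq' _ _ (up_inj (fm.ρ.symm.injective h1))
  have hσu : ∀ u u', σ 0 (u + u') = σ 0 u * σ 0 u' := fun u u' => by
    rw [← hσ, add_zero]
  have hσw : ∀ w w', σ (w + w') 0 = σ w 0 * σ w' 0 := fun u u' => by
    rw [← hσ, add_zero]
  have hβadd : ∀ u u', β (u + u') = β u + β u' := by
    intro u u'
    apply huniq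
    intro v
    apply Subtype.ext
    have h1 : up ((β u + β u') ^ 2) = up (β u ^ 2) * up (β u' ^ 2) := by
      rw [← up_add, CharTwo.add_sq]
    rw [hβ, h1, map_mul]
    show _ = (((fm.ρ.symm (up (β u ^ 2)) : MulAut V) ((fm.ρ.symm (up (β u' ^ 2)) : MulAut V) v) : V) : Ω)
    rw [hβ, hβ, hσu]
    have h2 : s * ((σ 0 u * σ 0 u' : V) : Ω) * s = (s * (σ 0 u : Ω) * s) * (s * (σ 0 u' : Ω) * s) := by
      show s * ((σ 0 u : Ω) * (σ 0 u' : Ω)) * s = _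
      calc s * ((σ 0 u : Ω) * (σ 0 u' : Ω)) * s = s * (σ 0 u : Ω) * (s * s) * (σ 0 u' : Ω) * s := by
            rw [hss]; group
        _ = _ := by group
    rw [h2]
    group
  have hσψ1 : ∀ w u, Multiplicative.toAdd (fm.ψ (σ w u)) 1 = u := fun w u => by rw [hσψ]; rfl
  have hσψ0 : ∀ w u, Multiplicative.toAdd (fm.ψ (σ w u)) 0 = w := fun w u => by rw [hσψ]; rfl
  have hβinj : Function.Injective β := by
    have h0 : ∀ u, β u = 0 → u = 0 := by
      intro u hu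
      have h1 : s * (σ 0 u : Ω) * s ∈ V := by
        apply mem_V_of_comm c (T_le c (W_le_T c (hsV _ (σ 0 u).2)))
        intro v hv
        have h3 := hβ u ⟨v, hv⟩
        have h0 : ((0 : K) ^ 2) = 0 := by simp
        rw [hu, h0, up_zero, map_one] at h3
        have h4 : v = (s * (σ 0 u : Ω) * s) * v * (s * (σ 0 u : Ω) * s)⁻¹ := h3
        calc (s * (σ 0 u : Ω) * s) * v = (s * (σ 0 u : Ω) * s) * v * (s * (σ 0 u : Ω) * s)⁻¹ * (s * (σ 0 u : Ω) * s) := by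
              rw [inv_mul_cancel_right]
          _ = v * (s * (σ 0 u : Ω) * s) := by rw [← h4]
      have h2 := hsV _ h1
      rw [hsss] at h2
      have h3 := fm.ψ_of_W h2
      rwa [hσψ1] at h3
    intro a b hab
    have h1 := hβadd (a - b) b
    rw [sub_add_cancel] at h1
    have h2 : β (a - b) = 0 := by
      rw [hab] at h1
      exact (right_eq_add.1 h1)
    exact sub_eq_zero.1 (h0 _ h2)
  have hβbij : Function.Bijective β := ⟨hβinj, Finite.surjective_of_injective hβinj⟩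
  -- `τ`
  have hτex : ∀ v : K, ∃ w : K, (σ w 0 : Ω) = s * (δ v : Ω) * s := by
    intro v
    rw [hsD _ (hδD v)]
    exact hσs _ (cj_mem (hδD v))
  choose τ hτ using hτex
  -- elements of `D'` and `D`
  have hsD' : ∀ d ∈ cj x (fixS V c.E), s * d * s ∈ fixS V c.E := by
    rintro _ ⟨d, hd, rfl⟩
    show s * (x * d * x⁻¹) * s ∈ _
    rw [← hsD d hd, hsss]
    exact hd
  have hZ : ∀ d ∈ fixS V c.E, d ∈ V ⊓ cj x V := fun d hd => ⟨fixS_le hd, fm.D_le_W hd⟩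
  have hZ' : ∀ d ∈ cj x (fixS V c.E), d ∈ V ⊓ cj x V := fun d hd =>
    ⟨fm.D'_le_V hd, Frm.D'_le_W (c := c) hd⟩
  have hact : ∀ u' u : K, (s * (σ 0 u' : Ω) * s) * (σ 0 u : Ω) * (s * (σ 0 u' : Ω) * s)⁻¹ =
      (σ (β u' ^ 2 * u) u : Ω) * (δ (β u' * u) : Ω) := by
    intro u' u
    rw [← hβ, ← fr_up, hform]
    simp
  have hinv : ∀ g ∈ V, g⁻¹ = g := fun g hg => inv_eq_of_mul_eq_one_left (by rw [← pow_two]; exact c.el g hg)
  have hsinv : ∀ g ∈ V, (s * g * s)⁻¹ = s * g * s := fun g hg => by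
    rw [mul_inv_rev, mul_inv_rev, hsi, hinv g hg, mul_assoc]
  have hRrel : ∀ u' u, τ (β u' * u) = β u ^ 2 * u' := by
    intro u' u
    have hV1 := (σ 0 u').2
    have hV2 := (σ 0 u).2
    set a := (σ 0 u' : Ω) with ha
    set a₂ := (σ 0 u : Ω) with ha₂
    have h1 := hact u' u
    have h2 := hact u u'
    rw [← ha, ← ha₂] at h1 h2
    rw [hsinv a hV1] at h1
    rw [hsinv a₂ hV2] at h2
    -- conjugate the first relation by `s`
    have h3 : a * (s * a₂ * s) * a = (s * (σ (β u' ^ 2 * u) u : Ω) * s) * (s * (δ (β u' * u) : Ω) * s) := by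
      have h4 : s * (s * a * s * a₂ * (s * a * s)) * s = a * (s * a₂ * s) * a := by
        calc s * (s * a * s * a₂ * (s * a * s)) * s = (s * s) * a * (s * a₂ * s) * a * (s * s) := by group
          _ = _ := by rw [hss, one_mul, mul_one]
      rw [← h4, h1]
      calc s * ((σ (β u' ^ 2 * u) u : Ω) * (δ (β u' * u) : Ω)) * s =
          s * (σ (β u' ^ 2 * u) u : Ω) * (s * s) * (δ (β u' * u) : Ω) * s := by rw [hss]; group
        _ = _ := by group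
    have h5 : (σ (β u' ^ 2 * u) u : Ω) = (σ (β u' ^ 2 * u) 0 : Ω) * a₂ := by
      have : σ (β u' ^ 2 * u) u = σ (β u' ^ 2 * u) 0 * σ 0 u := by rw [← hσ, add_zero, zero_add]
      rw [this]
      rfl
    have h6 : s * (σ (β u' ^ 2 * u) u : Ω) * s = (s * (σ (β u' ^ 2 * u) 0 : Ω) * s) * (s * a₂ * s) := by
      rw [h5]
      calc s * ((σ (β u' ^ 2 * u) 0 : Ω) * a₂) * s = s * (σ (β u' ^ 2 * u) 0 : Ω) * (s * s) * a₂ * s := by
            rw [hss]; group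
        _ = _ := by group
    have hd1 : s * (σ (β u' ^ 2 * u) 0 : Ω) * s ∈ fixS V c.E := hsD' _ (hσ0 _)
    set d1 := s * (σ (β u' ^ 2 * u) 0 : Ω) * s with hd1def
    set a' := s * a₂ * s with ha'
    have ha'T : a' ∈ T := W_le_T c (hsV _ hV2)
    have haT : a ∈ T := V_le_T c hV1
    rw [h6, ← hτ] at h3
    -- `a' a a' = σ (β u ^ 2 u') u' δ`
    have ha'2 : a' * a' = 1 := by
      rw [ha']
      calc s * a₂ * s * (s * a₂ * s) = s * a₂ * (s * s) * a₂ * s := by group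
        _ = s * (a₂ * a₂) * s := by rw [hss]; group
        _ = 1 := by rw [← pow_two, c.el _ hV2, mul_one, hss]
    have haa : a * a = 1 := by rw [← pow_two, c.el _ hV1]
    have h7 : (σ (β u ^ 2 * u') u' : Ω) = (σ (β u ^ 2 * u') 0 : Ω) * a := by
      have : σ (β u ^ 2 * u') u' = σ (β u ^ 2 * u') 0 * σ 0 u' := by rw [← hσ, add_zero, zero_add]
      rw [this]
      rfl
    rw [h7] at h2
    -- `h2 : a' * a * a' = z₁ * a * δ₁`, `h3 : a * a' * a = d1 * a' * z₂`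
    have h8 : (σ (β u ^ 2 * u') 0 : Ω) * (δ (β u * u') : Ω) = (σ (τ (β u' * u)) 0 : Ω) * d1 := by
      have hz1 := Z_comm c hT (hZ' _ (hσ0 (β u ^ 2 * u')))
      have hz2 := Z_comm c hT (hZ' _ (hσ0 (τ (β u' * u))))
      have hz3 := Z_comm c hT (hZ _ hd1)
      have hz4 := Z_comm c hT (hZ _ (hδD (β u * u')))
      have e1 : a' * (a * a' * a) = (σ (β u ^ 2 * u') 0 : Ω) * (δ (β u * u') : Ω) := by
        calc a' * (a * a' * a) = (a' * a * a') * a := by group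
          _ = (σ (β u ^ 2 * u') 0 : Ω) * a * (δ (β u * u') : Ω) * a := by rw [h2]
          _ = (σ (β u ^ 2 * u') 0 : Ω) * (a * (δ (β u * u') : Ω)) * a := by group
          _ = (σ (β u ^ 2 * u') 0 : Ω) * ((δ (β u * u') : Ω) * a) * a := by rw [hz4 a haT]
          _ = (σ (β u ^ 2 * u') 0 : Ω) * (δ (β u * u') : Ω) * (a * a) := by group
          _ = _ := by rw [haa, mul_one]
      have e2 : a' * (a * a' * a) = (σ (τ (β u' * u)) 0 : Ω) * d1 := by
        rw [h3]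
        calc a' * (d1 * a' * (σ (τ (β u' * u)) 0 : Ω)) = (a' * d1) * (a' * (σ (τ (β u' * u)) 0 : Ω)) := by group
          _ = (d1 * a') * (a' * (σ (τ (β u' * u)) 0 : Ω)) := by rw [hz3 a' ha'T]
          _ = d1 * (a' * a') * (σ (τ (β u' * u)) 0 : Ω) := by group
          _ = d1 * (σ (τ (β u' * u)) 0 : Ω) := by rw [ha'2, mul_one]
          _ = _ := hz2 d1 (V_le_T c (fixS_le hd1))
      rw [← e1, e2]
    have h9 : σ (β u ^ 2 * u') 0 * δ (β u * u') = σ (τ (β u' * u)) 0 * ⟨d1, fixS_le hd1⟩ := Subtype.ext h8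
    have h10 := congrArg (fun v => Multiplicative.toAdd (fm.ψ v) 0) h9
    have hk1 : fm.ψ (δ (β u * u')) = 1 := (fm.ker _).2 (hδD _)
    have hk2 : fm.ψ (⟨d1, fixS_le hd1⟩ : V) = 1 := (fm.ker _).2 hd1
    simp only [map_mul, hk1, hk2, mul_one] at h10
    rw [hσψ0, hσψ0] at h10
    exact h10.symm
  -- rescaling
  obtain ⟨u0, hu0⟩ := hβbij.2 1
  have hu00 : u0 ≠ 0 := by
    rintro rfl
    have := hβadd 0 0
    rw [add_zero, hu0] at this
    exact one_ne_zero (left_eq_add.1 this)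
  obtain ⟨θ, hθ1, hθ2, hθ3⟩ := field_aut (fun u => β (u0 * u)) (fun v => u0⁻¹ * τ (u0 * v))
    (fun a b => by rw [mul_add, hβadd])
    ⟨fun a b hab => mul_left_cancel₀ hu00 (hβbij.1 hab), fun t => by
      obtain ⟨u, hu⟩ := hβbij.2 t
      exact ⟨u0⁻¹ * u, by show β (u0 * (u0⁻¹ * u)) = t; rw [mul_inv_cancel_left₀ hu00, hu]⟩⟩
    (by rw [mul_one, hu0])
    (fun u' u => by
      show u0⁻¹ * τ (u0 * (β (u0 * u') * u)) = β (u0 * u) ^ 2 * u'
      have : u0 * (β (u0 * u') * u) = β (u0 * u') * (u0 * u) := by ring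
      rw [this, hRrel]
      field_simp)
  have hθ1' : ∀ u, β (u0 * θ u) = u := hθ1
  have hθ3' : ∀ u, u0⁻¹ * τ (u0 * u) = θ u := hθ3
  have hδ0 : δ 0 = 1 := by
    have := hδ 0 0
    rw [add_zero] at this
    exact (mul_eq_left.1 this.symm)
  have hσ00 : σ 0 0 = 1 := by
    have := hσ 0 0 0 0
    rw [add_zero] at this
    exact (mul_eq_left.1 this.symm)
  have hdec : ∀ w u, (σ w u : Ω) = (σ 0 u : Ω) * (σ w 0 : Ω) := by
    intro w u
    have : σ w u = σ 0 u * σ w 0 := by rw [← hσ, add_zero, zero_add]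
    rw [this]
    rfl
  -- the action of `xa t`
  have hxa : ∀ (t : K) (v : V), (((fm.ρ.symm (up (t ^ 2)) : MulAut V) v : V) : Ω) =
      (s * (σ 0 (u0 * θ t) : Ω) * s) * v * (s * (σ 0 (u0 * θ t) : Ω) * s)⁻¹ := by
    intro t v
    rw [← hβ, hθ1']
  have hmemZ : ∀ v w, (δ v : Ω) * (σ w 0 : Ω) ∈ V ⊓ cj x V := fun v w =>
    Subgroup.mul_mem _ (hZ _ (hδD v)) (hZ' _ (hσ0 w))
  have hVdec : ∀ g ∈ V, ∃ u v w, g = (σ 0 (u0 * u) : Ω) * (δ (u0 * v) : Ω) * (σ (u0 * w) 0 : Ω) := by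
    intro g hg
    set w := Multiplicative.toAdd (fm.ψ ⟨g, hg⟩) 0 with hw
    set u := Multiplicative.toAdd (fm.ψ ⟨g, hg⟩) 1 with hu
    have hψd : fm.ψ ((⟨g, hg⟩ : V) * (σ w u)⁻¹) = 1 := by
      rw [map_mul, map_inv, mul_inv_eq_one]
      apply Multiplicative.toAdd.injective
      rw [hσψ]
      ext i
      fin_cases i <;> rfl
    rw [fm.ker] at hψd
    obtain ⟨v, hv⟩ := hδs _ hψd
    refine ⟨u0⁻¹ * u, u0⁻¹ * v, u0⁻¹ * w, ?_⟩
    rw [mul_inv_cancel_left₀ hu00, mul_inv_cancel_left₀ hu00, mul_inv_cancel_left₀ hu00, hv]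
    have h1 : ((((⟨g, hg⟩ : V) * (σ w u)⁻¹ : V)) : Ω) = g * (σ w u : Ω)⁻¹ := rfl
    rw [h1, hdec w u, Vcomm c _ (σ 0 u).2 _ (σ w 0).2, mul_inv_rev]
    have h2 := Vcomm c _ (σ 0 u).2 g hg
    calc g = (σ 0 u : Ω)⁻¹ * ((σ 0 u : Ω) * g) := by group
      _ = (σ 0 u : Ω)⁻¹ * (g * (σ 0 u : Ω)) := by rw [h2]
      _ = ((σ 0 u : Ω)⁻¹ * g) * (σ 0 u : Ω) := by group
      _ = (σ 0 u : Ω) * ((σ 0 u : Ω)⁻¹ * g) := by
          rw [Vcomm c _ (V.mul_mem (V.inv_mem (σ 0 u).2) hg) _ (σ 0 u).2]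
      _ = (σ 0 u : Ω) * (g * (σ 0 u : Ω)⁻¹) := by
          rw [Vcomm c _ (V.inv_mem (σ 0 u).2) g hg]
      _ = _ := by group
  have hTdec : ∀ g ∈ T, ∃ t u v w, g = s * (σ 0 (u0 * θ t) : Ω) * s * (σ 0 (u0 * u) : Ω) * (δ (u0 * v) : Ω) *
      (σ (u0 * w) 0 : Ω) := by
    intro g hg
    obtain ⟨v, hv, a, ha, rfl⟩ := T_decomp c hT hg
    obtain ⟨t', ht'⟩ := fm.up a ha
    obtain ⟨t, rfl⟩ := hsq t'
    set a' := s * (σ 0 (u0 * θ t) : Ω) * s with ha'
    have ha'T : a' ∈ T := W_le_T c (hsV _ (Subtype.coe_prop _))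
    have h1 : a'⁻¹ * a ∈ V := by
      apply mem_V_of_comm c (T_le c (T.mul_mem (T.inv_mem ha'T) (W_le_T c ha)))
      intro z hz
      have e1 := ht' ⟨z, hz⟩
      have e2 := hxa t ⟨z, hz⟩
      rw [← ha'] at e2
      have e3 : a * z * a⁻¹ = a' * z * a'⁻¹ := e1.symm.trans e2
      calc a'⁻¹ * a * z = a'⁻¹ * (a * z * a⁻¹) * a := by group
        _ = a'⁻¹ * (a' * z * a'⁻¹) * a := by rw [e3]
        _ = _ := by group
    have h2 : a'⁻¹ * v * a' ∈ V := by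
      have := T_conj c (T.inv_mem ha'T) hv
      rwa [inv_inv] at this
    obtain ⟨u, v', w, he⟩ := hVdec _ (V.mul_mem h2 h1)
    refine ⟨t, u, v', w, ?_⟩
    calc v * a = a' * ((a'⁻¹ * v * a') * (a'⁻¹ * a)) := by group
      _ = _ := by rw [he, ha']; group
  refine ⟨θ, hθ2, 
    { xa := fun t => s * (σ 0 (u0 * θ t) : Ω) * s
      xb := fun u => (σ 0 (u0 * u) : Ω)
      xc := fun v => (δ (u0 * v) : Ω)
      xd := fun w => (σ (u0 * w) 0 : Ω)
      y := s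
      xa_add := ?_
      xb_add := ?_
      xc_add := ?_
      xd_add := ?_
      ab := ?_
      ac := ?_
      ad := ?_
      bc := ?_
      bd := ?_
      cd := ?_
      y_sq := hss
      ya := ?_
      yc := ?_
      inj := ?_
      y_mem := hsS
      y_not := hsT
      hS := ?_
      hT := ?_
      hV := ?_ }, fm, ht0, ?_, ?_, ?_, hxa, ?_⟩
  · intro a b
    rw [map_add, mul_add, hσu]
    show s * ((σ 0 (u0 * θ a) : Ω) * (σ 0 (u0 * θ b) : Ω)) * s = _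
    calc s * ((σ 0 (u0 * θ a) : Ω) * (σ 0 (u0 * θ b) : Ω)) * s =
        s * (σ 0 (u0 * θ a) : Ω) * (s * s) * (σ 0 (u0 * θ b) : Ω) * s := by rw [hss]; group
      _ = _ := by group
  · intro a b
    rw [mul_add, hσu]
    rfl
  · intro a b
    rw [mul_add, hδ]
    rfl
  · intro a b
    rw [mul_add, hσw]
    rfl
  · -- ab
    intro t u
    have h1 := hact (u0 * θ t) (u0 * u)
    rw [hθ1'] at h1
    set a := s * (σ 0 (u0 * θ t) : Ω) * s with ha
    have haT : a ∈ T := W_le_T c (hsV _ (σ 0 (u0 * θ t)).2)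
    have h2 : a * (σ 0 (u0 * u) : Ω) = (σ (t ^ 2 * (u0 * u)) (u0 * u) : Ω) * (δ (t * (u0 * u)) : Ω) * a := by
      rw [← h1]; group
    rw [h2, hdec (t ^ 2 * (u0 * u))]
    have e1 : t ^ 2 * (u0 * u) = u0 * (t ^ 2 * u) := by ring
    have e2 : t * (u0 * u) = u0 * (t * u) := by ring
    rw [e1, e2]
    have h3 := Z_comm c hT (hmemZ (u0 * (t * u)) (u0 * (t ^ 2 * u))) a haT
    have h4 : (σ (u0 * (t ^ 2 * u)) 0 : Ω) * (δ (u0 * (t * u)) : Ω) =
        (δ (u0 * (t * u)) : Ω) * (σ (u0 * (t ^ 2 * u)) 0 : Ω) :=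
      Vcomm c _ (Subtype.coe_prop _) _ (Subtype.coe_prop _)
    calc (σ 0 (u0 * u) : Ω) * (σ (u0 * (t ^ 2 * u)) 0 : Ω) * (δ (u0 * (t * u)) : Ω) * a
        = (σ 0 (u0 * u) : Ω) * ((σ (u0 * (t ^ 2 * u)) 0 : Ω) * (δ (u0 * (t * u)) : Ω)) * a := by group
      _ = (σ 0 (u0 * u) : Ω) * (((δ (u0 * (t * u)) : Ω) * (σ (u0 * (t ^ 2 * u)) 0 : Ω)) * a) := by
          rw [h4]; group
      _ = (σ 0 (u0 * u) : Ω) * (a * ((δ (u0 * (t * u)) : Ω) * (σ (u0 * (t ^ 2 * u)) 0 : Ω))) := by rw [h3]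
      _ = _ := by group
  · intro t v
    exact Z_comm c hT (hZ _ (hδD _)) _ (W_le_T c (hsV _ (Subtype.coe_prop _)))
  · intro t v
    exact Z_comm c hT (hZ' _ (hσ0 _)) _ (W_le_T c (hsV _ (Subtype.coe_prop _)))
  · intro t v
    exact Vcomm c _ (Subtype.coe_prop _) _ (Subtype.coe_prop _)
  · intro t v
    exact Vcomm c _ (Subtype.coe_prop _) _ (Subtype.coe_prop _)
  · intro t v
    exact Vcomm c _ (Subtype.coe_prop _) _ (Subtype.coe_prop _)
  · intro t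
    exact hsss _
  · intro v
    show s * (δ (u0 * v) : Ω) * s = (σ (u0 * θ v) 0 : Ω)
    rw [← hθ3', mul_inv_cancel_left₀ hu00, hτ]
  · -- inj
    intro t u v w h
    have haV : s * (σ 0 (u0 * θ t) : Ω) * s ∈ V := by
      have h1 : s * (σ 0 (u0 * θ t) : Ω) * s = ((σ 0 (u0 * u) : Ω) * (δ (u0 * v) : Ω) * (σ (u0 * w) 0 : Ω))⁻¹ := by
        rw [eq_inv_iff_mul_eq_one, ← h]
        group
      rw [h1]
      exact V.inv_mem (V.mul_mem (V.mul_mem (Subtype.coe_prop _) (Subtype.coe_prop _)) (Subtype.coe_prop _))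
    have ht : t = 0 := by
      apply huniq
      intro v'
      apply Subtype.ext
      have h0 : ((0 : K) ^ 2) = 0 := by simp
      rw [hxa, Vcomm c _ haV v' v'.2, h0, up_zero, map_one, mul_inv_cancel_right]
      rfl
    subst ht
    have h1 : (σ 0 (u0 * θ 0) : Ω) = 1 := by
      rw [map_zero, mul_zero, hσ00]
      rfl
    have h2 : σ 0 (u0 * u) * δ (u0 * v) * σ (u0 * w) 0 = 1 := by
      apply Subtype.ext
      show (σ 0 (u0 * u) : Ω) * (δ (u0 * v) : Ω) * (σ (u0 * w) 0 : Ω) = 1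
      rw [h1, mul_one, hss, one_mul] at h
      exact h
    have h3 := congrArg (fun z => Multiplicative.toAdd (fm.ψ z)) h2
    have hk1 : fm.ψ (δ (u0 * v)) = 1 := (fm.ker _).2 (hδD _)
    simp only [map_mul, hk1, mul_one, map_one, toAdd_one, toAdd_mul] at h3
    rw [hσψ, hσψ] at h3
    have e0 := congrFun h3 0
    have e1 := congrFun h3 1
    simp [hu00] at e0 e1
    subst e0 e1
    rw [mul_zero, hσ00, one_mul, mul_one, ← hδ0] at h2
    have h4 := hδi h2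
    refine ⟨rfl, rfl, ?_, rfl⟩
    exact (mul_eq_zero.1 h4).resolve_left hu00
  · -- S
    intro g
    constructor
    · intro hg
      by_cases hgT : g ∈ T
      · obtain ⟨t, u, v, w, he⟩ := hTdec g hgT
        exact ⟨t, u, v, w, Or.inl he⟩
      · have h1 : g * s ∈ T := by
          have hidx : (T.subgroupOf S).index = 2 := b.S_idx
          have := (Subgroup.mul_mem_iff_of_index_two hidx (a := ⟨g, hg⟩) (b := ⟨s, hsS⟩)).2
            ⟨fun h => absurd h hgT, fun h => absurd h hsT⟩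
          exact this
        obtain ⟨t, u, v, w, he⟩ := hTdec _ h1
        refine ⟨t, u, v, w, Or.inr ?_⟩
        rw [← he, mul_assoc, hss, mul_one]
    · rintro ⟨t, u, v, w, rfl | rfl⟩
      · exact S.mul_mem (S.mul_mem (S.mul_mem (S.mul_mem (S.mul_mem hsS (c.V_le (Subtype.coe_prop _))) hsS)
          (c.V_le (Subtype.coe_prop _))) (c.V_le (Subtype.coe_prop _))) (c.V_le (Subtype.coe_prop _))
      · exact S.mul_mem (S.mul_mem (S.mul_mem (S.mul_mem (S.mul_mem (S.mul_mem hsS (c.V_le (Subtype.coe_prop _))) hsS)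
          (c.V_le (Subtype.coe_prop _))) (c.V_le (Subtype.coe_prop _))) (c.V_le (Subtype.coe_prop _))) hsS
  · intro g
    refine ⟨hTdec g, ?_⟩
    rintro ⟨t, u, v, w, rfl⟩
    exact T.mul_mem (T.mul_mem (T.mul_mem (W_le_T c (hsV _ (Subtype.coe_prop _))) (V_le_T c (Subtype.coe_prop _)))
      (V_le_T c (Subtype.coe_prop _))) (V_le_T c (Subtype.coe_prop _))
  · intro g
    refine ⟨hVdec g, ?_⟩
    rintro ⟨u, v, w, rfl⟩
    exact V.mul_mem (V.mul_mem (Subtype.coe_prop _) (Subtype.coe_prop _)) (Subtype.coe_prop _)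
  · exact fun v => hδD _
  · exact fun w => hσ0 _
  · exact fun t => hsV _ (Subtype.coe_prop _)
  · -- action of `SL₂`
    intro g u v w h
    have h1 : (⟨(σ 0 (u0 * u) : Ω) * (δ (u0 * v) : Ω) * (σ (u0 * w) 0 : Ω), h⟩ : V) =
        σ (u0 * w) (u0 * u) * δ (u0 * v) := by
      apply Subtype.ext
      show (σ 0 (u0 * u) : Ω) * (δ (u0 * v) : Ω) * (σ (u0 * w) 0 : Ω) =
        (σ (u0 * w) (u0 * u) : Ω) * (δ (u0 * v) : Ω)
      rw [hdec (u0 * w) (u0 * u), mul_assoc, mul_assoc, Vcomm c _ (δ (u0 * v)).2 _ (σ (u0 * w) 0).2]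
    show (((fm.ρ.symm (fr g) : MulAut V) (⟨(σ 0 (u0 * u) : Ω) * (δ (u0 * v) : Ω) * (σ (u0 * w) 0 : Ω), h⟩ : V) : V) : Ω) = _
    rw [h1, map_mul, hform, fm.fix_of_D (hδD _), mul_assoc, ← hδ, hc (σ _ _) (δ _)]
    have e1 : g 0 0 ^ 2 * (u0 * w) + g 0 1 ^ 2 * (u0 * u) = u0 * (g 0 0 ^ 2 * w + g 0 1 ^ 2 * u) := by ring
    have e2 : g 1 0 ^ 2 * (u0 * w) + g 1 1 ^ 2 * (u0 * u) = u0 * (g 1 0 ^ 2 * w + g 1 1 ^ 2 * u) := by ring
    have e3 : g 0 0 * g 1 0 * (u0 * w) + g 0 1 * g 1 1 * (u0 * u) + u0 * v =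
      u0 * (v + (g 0 0 * g 1 0 * w + g 0 1 * g 1 1 * u)) := by ring
    rw [e1, e2, e3]
    show (δ (u0 * (v + (g 0 0 * g 1 0 * w + g 0 1 * g 1 1 * u))) : Ω) *
      (σ (u0 * (g 0 0 ^ 2 * w + g 0 1 ^ 2 * u)) (u0 * (g 1 0 ^ 2 * w + g 1 1 ^ 2 * u)) : Ω) =
      (σ 0 (u0 * (g 1 0 ^ 2 * w + g 1 1 ^ 2 * u)) : Ω) * (δ (u0 * (v + (g 0 0 * g 1 0 * w + g 0 1 * g 1 1 * u))) : Ω) *
        (σ (u0 * (g 0 0 ^ 2 * w + g 0 1 ^ 2 * u)) 0 : Ω)
    rw [hdec (u0 * (g 0 0 ^ 2 * w + g 0 1 ^ 2 * u)) (u0 * (g 1 0 ^ 2 * w + g 1 1 ^ 2 * u)), ← mul_assoc,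
      Vcomm c _ (δ (u0 * (v + (g 0 0 * g 1 0 * w + g 0 1 * g 1 1 * u)))).2 _
        (σ 0 (u0 * (g 1 0 ^ 2 * w + g 1 1 ^ 2 * u))).2]

end Cfsg.Agent.H869.SP
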