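import Mathlib
import Cfsg.Agent.H869.SP.Co
import Cfsg.Agent.H869.SP.Par
import Cfsg.Agent.H311.SP.NE

/-!
# S5175, SP1: the automizer of `V`; the interface theorem
-/

set_option autoImplicit false

namespace Cfsg.Agent.H869.SP

open Cfsg Cfsg.FusionSystem Cfsg.Agent.H756.HM Cfsg.Agent.H802 Cfsg.Agent.H124.SP Cfsg.Agent.H311.SP
open Matrix (SpecialLinearGroup)

universe u

variable {Ω : Type u} [Group Ω] {S : Subgroup Ω}
  {F : FusionSystem S} {K : Type} [Field K] [Fintype K] {V T : Subgroup Ω} {x : Ω}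

/-- transport of a map on `T` back to `V` by an element `y` swapping `V` and `W` -/
theorem exists_back' [Finite S] (c : Conf F K V T x) {φ : T →* Ω} (hφ : φ ∈ F.Hom T)
    (hW : ∀ t : T, (t : Ω) ∈ cj x V → φ t ∈ cj x V) {y : Ω} (hy : y ∈ S) (h1 : ∀ v ∈ V, y * v * y⁻¹ ∈ cj x V)
    (h2 : ∀ v ∈ cj x V, y⁻¹ * v * y ∈ V) :
    ∃ α ∈ F.autGroup V, ∀ (v : V) (h : y * (v : Ω) * y⁻¹ ∈ T), y * ((α v : V) : Ω) * y⁻¹ = φ ⟨y * v * y⁻¹, h⟩ := by
  have hfinV : Finite V := finite_of_le c.V_le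
  have h0 : conjHom V y ∈ F.Hom V := F.conj_mem c.V_le hy
  obtain ⟨χ, hχ, hχe⟩ := exists_comp h0 hφ (fun v => W_le_T c (h1 v v.2))
  have h1' : conjHom (cj x V) y⁻¹ ∈ F.Hom (cj x V) :=
    F.conj_mem ((W_le_T c).trans (T_le c)) (S.inv_mem hy)
  have hχW : ∀ v, χ v ∈ cj x V := fun v => by
    rw [hχe]
    exact hW _ (h1 v v.2)
  obtain ⟨χ', hχ', hχe'⟩ := exists_comp hχ h1' hχW
  have hr : χ'.range = V := range_eq_of_mapsTo hχ' (fun v => by
    rw [hχe']
    show y⁻¹ * χ v * y⁻¹⁻¹ ∈ V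
    rw [inv_inv]
    exact h2 _ (hχW v))
  obtain ⟨α, hα, hαe⟩ := exists_aut hχ' hr
  refine ⟨α, hα, fun v h => ?_⟩
  rw [hαe, hχe']
  show y * (y⁻¹ * χ v * y⁻¹⁻¹) * y⁻¹ = _
  rw [hχe]
  show y * (y⁻¹ * φ ⟨y * v * y⁻¹, _⟩ * y⁻¹⁻¹) * y⁻¹ = _
  group

section coords
omit [Fintype K]

variable {θ : K ≃+* K} (co : SpCo S T V K θ)

/-- the point of `V` with given coordinates -/
def pt (X : K × K × K) : V := ⟨co.xb X.1 * co.xc X.2.1 * co.xd X.2.2, (co.hV _).2 ⟨_, _, _, rfl⟩⟩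

theorem pt_surj : Function.Surjective (pt co) := by
  rintro ⟨g, hg⟩
  obtain ⟨u, v, w, he⟩ := (co.hV g).1 hg
  exact ⟨(u, v, w), Subtype.ext he.symm⟩

theorem pt_add (X Y : K × K × K) : pt co (X + Y) = pt co X * pt co Y := by
  apply Subtype.ext
  show co.xb (X.1 + Y.1) * co.xc (X.2.1 + Y.2.1) * co.xd (X.2.2 + Y.2.2) =
    (co.xb X.1 * co.xc X.2.1 * co.xd X.2.2) * (co.xb Y.1 * co.xc Y.2.1 * co.xd Y.2.2)
  rw [co.xb_add, co.xc_add, co.xd_add]
  calc co.xb X.1 * co.xb Y.1 * (co.xc X.2.1 * co.xc Y.2.1) * (co.xd X.2.2 * co.xd Y.2.2)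
      = co.xb X.1 * (co.xb Y.1 * co.xc X.2.1) * co.xc Y.2.1 * co.xd X.2.2 * co.xd Y.2.2 := by group
    _ = co.xb X.1 * (co.xc X.2.1 * co.xb Y.1) * co.xc Y.2.1 * co.xd X.2.2 * co.xd Y.2.2 := by rw [co.bc]
    _ = co.xb X.1 * co.xc X.2.1 * co.xb Y.1 * (co.xc Y.2.1 * co.xd X.2.2) * co.xd Y.2.2 := by group
    _ = co.xb X.1 * co.xc X.2.1 * co.xb Y.1 * (co.xd X.2.2 * co.xc Y.2.1) * co.xd Y.2.2 := by rw [co.cd]
    _ = co.xb X.1 * co.xc X.2.1 * (co.xb Y.1 * co.xd X.2.2) * co.xc Y.2.1 * co.xd Y.2.2 := by group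
    _ = co.xb X.1 * co.xc X.2.1 * (co.xd X.2.2 * co.xb Y.1) * co.xc Y.2.1 * co.xd Y.2.2 := by rw [co.bd]
    _ = _ := by group

theorem xa_zero : co.xa 0 = 1 := by
  have := co.xa_add 0 0
  rw [add_zero] at this
  exact (mul_eq_left.1 this.symm)

theorem xb_zero : co.xb 0 = 1 := by
  have := co.xb_add 0 0
  rw [add_zero] at this
  exact (mul_eq_left.1 this.symm)

theorem xc_zero : co.xc 0 = 1 := by
  have := co.xc_add 0 0
  rw [add_zero] at this
  exact (mul_eq_left.1 this.symm)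

theorem xd_zero : co.xd 0 = 1 := by
  have := co.xd_add 0 0
  rw [add_zero] at this
  exact (mul_eq_left.1 this.symm)

theorem pt_inj : Function.Injective (pt co) := by
  have h0 : ∀ X, pt co X = 1 → X = 0 := by
    intro X hX
    have h1 : co.xb X.1 * co.xc X.2.1 * co.xd X.2.2 = 1 := congrArg Subtype.val hX
    obtain ⟨-, h2, h3, h4⟩ := co.inj 0 X.1 X.2.1 X.2.2 (by rw [xa_zero, one_mul, h1])
    exact Prod.ext h2 (Prod.ext h3 h4)
  intro X Y hXY
  have h1 := pt_add co (X - Y) Y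
  rw [sub_add_cancel, hXY] at h1
  exact sub_eq_zero.1 (h0 _ (right_eq_mul.1 h1))

theorem isAct_iff (g : GL (Fin 2) K) (φ : K ≃+* K) (α : MulAut V) :
    IsAct co g φ α ↔ ∀ X, α (pt co X) = pt co (act g φ X) := by
  constructor
  · intro h X
    apply Subtype.ext
    exact h X.1 X.2.1 X.2.2 _
  · intro h u v w hm
    exact congrArg Subtype.val (h (u, v, w))

theorem act_eq_actM (g : GL (Fin 2) K) (φ : K ≃+* K) (X : K × K × K) :
    act g φ X = actM (g : Matrix (Fin 2) (Fin 2) K) (fm φ X) := by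
  unfold act actM fm
  refine Prod.ext rfl (Prod.ext ?_ rfl)
  show _ = _
  simp only
  ring

theorem fm_one (X : K × K × K) : fm (1 : K ≃+* K) X = X := rfl

theorem slAct_iff [CharP K 2] (g : SpecialLinearGroup (Fin 2) K) (e : MulAut V) :
    SlAct co g e ↔ ∀ X, e (pt co X) = pt co (actM (g : Matrix (Fin 2) (Fin 2) K) X) := by
  constructor
  · intro h X
    apply Subtype.ext
    obtain ⟨u, v, w⟩ := X
    rw [actM_sl]
    have h1 := h u v w ((co.hV _).2 ⟨_, _, _, rfl⟩)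
    rw [← add_assoc] at h1
    exact h1
  · intro h u v w hm
    have h1 := congrArg Subtype.val (h (u, v, w))
    rw [actM_sl] at h1
    rw [← add_assoc]
    exact h1

end coords

/-- **SP1**: the interface theorem. -/
theorem sp1 [Finite S] (hS : IsPGroup 2 S) (hF : F.IsSaturated 2) (b : Big F K V T x)
    (hD : Nat.card (fixS V b.E) = Fintype.card K) (hcom : comS V b.E = V) :
    ∃ k : ℕ, 1 ≤ k ∧ Fintype.card K = 2 ^ (2 * k + 1) ∧ ∃ θ : K ≃+* K, (∀ t, θ (θ t) = t ^ 2) ∧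
      ∃ (co : SpCo S T V K θ) (Φ : Subgroup (K ≃+* K)),
        ∀ α : MulAut V, α ∈ F.autGroup V ↔ ∃ g : GL (Fin 2) K, ∃ φ ∈ Φ, IsAct co g φ α := by
  classical
  have hch : CharP K 2 := charTwo_of b.toConf
  set c : Conf F K V T x := b.toConf with hcdef
  have hT : T = V ⊔ cj x V := b.T_eq
  have hfinV : Finite V := finite_of_le c.V_le
  obtain ⟨θ, hθ, co, fr', ⟨t0, ht0, hyt⟩, hxc, hxd, hxa, hxact, hsl⟩ := exists_co hS hF b hD hcom
  -- parity
  have hodd := odd_of_theta c.hK θ hθ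
  obtain ⟨k, hk⟩ := hodd
  have hk1 : 1 ≤ k := by
    by_contra hk0
    have : k = 0 := by omega
    subst this
    have h4 := b.q4
    rw [c.hK, hk] at h4
    norm_num at h4
  refine ⟨k, hk1, by rw [← hk]; exact c.hK, θ, hθ, co, ?_⟩
  set M : SpecialLinearGroup (Fin 2) K → MulAut V := fun g => (fr'.ρ.symm (fr g) : MulAut V) with hM
  have hMP : ∀ g X, M g (pt co X) = pt co (actM (g : Matrix (Fin 2) (Fin 2) K) X) := fun g =>
    (slAct_iff co g (M g)).1 (hsl g)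
  have hME : ∀ g, M g ∈ c.E := fun g => (fr'.ρ.symm (fr g)).2
  have hMF : ∀ g, M g ∈ F.autGroup V := fun g => c.E_le (hME g)
  have hEM : ∀ e ∈ c.E, ∃ g, M g = e := by
    intro e he
    obtain ⟨g, hg⟩ := fr_surjective (fr'.ρ ⟨e, he⟩)
    refine ⟨g, ?_⟩
    show ((fr'.ρ.symm (fr g) : c.E) : MulAut V) = e
    rw [hg, MulEquiv.symm_apply_apply]
  -- normal form
  have hnf : ∀ α ∈ F.autGroup V, ∃ (g : GL (Fin 2) K) (φ : K ≃+* K), IsAct co g φ α := by
    intro α hα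
    set P : K × K × K ≃ V := Equiv.ofBijective (pt co) ⟨pt_inj co, pt_surj co⟩ with hP
    have hPe : ∀ X, P X = pt co X := fun _ => rfl
    let γ : K × K × K ≃+ K × K × K :=
      { toFun := fun X => P.symm (α (P X))
        invFun := fun X => P.symm (α.symm (P X))
        left_inv := fun X => by simp
        right_inv := fun X => by simp
        map_add' := fun X Y => by
          apply P.injective
          rw [Equiv.apply_symm_apply, hPe, hPe, pt_add, pt_add, map_mul, ← hPe (P.symm _), ← hPe (P.symm _),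
            Equiv.apply_symm_apply, Equiv.apply_symm_apply]
          rfl }
    have hγ : ∀ X, pt co (γ X) = α (pt co X) := fun X => P.apply_symm_apply _
    obtain ⟨g, φ, h⟩ := NE_card b.q4 γ (by
      intro g
      obtain ⟨g1, hg1⟩ := hEM _ (b.E_nor α hα (M g) (hME g))
      refine ⟨g1, fun X => ?_⟩
      apply pt_inj co
      rw [hγ, ← hMP, ← hMP, hγ, hg1]
      simp)
    refine ⟨g, φ, (isAct_iff co g φ α).2 fun X => ?_⟩
    rw [act_eq_actM, ← h, hγ]
  -- all of `GL₂`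
  have hyi : co.y⁻¹ = co.y := inv_eq_of_mul_eq_one_left co.y_sq
  have hyV : ∀ v ∈ V, co.y * v * co.y⁻¹ ∈ cj x V := by
    intro v hv
    rw [hyt]
    have : t0 * x * v * (t0 * x)⁻¹ = t0 * (x * v * x⁻¹) * t0⁻¹ := by group
    rw [this]
    exact T_conjW c ht0 (cj_mem hv)
  have hyW : ∀ v ∈ cj x V, co.y⁻¹ * v * co.y ∈ V := by
    intro v hv
    have h1 : co.y * v * co.y⁻¹ ∈ V := by
      rw [hyt]
      have : t0 * x * v * (t0 * x)⁻¹ = t0 * (x * v * x⁻¹) * t0⁻¹ := by group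
      rw [this]
      exact T_conj c ht0 (x_conjW c hv)
    rwa [hyi] at h1 ⊢
  have hgl1 : ∀ r : K, r ≠ 0 → ∃ (g : GL (Fin 2) K) (α : MulAut V), α ∈ F.autGroup V ∧ IsAct co g 1 α ∧
      g 0 0 * g 1 1 + g 0 1 * g 1 0 = r := by
    intro r hr
    -- `r = θ⁻¹ (ρ²)`
    obtain ⟨ρ, hρ⟩ : ∃ ρ : K, ρ ^ 2 = θ r := exists_sq_eq (θ r)
    have hρ0 : ρ ≠ 0 := by
      rintro rfl
      apply hr
      have h0 : θ r = 0 := by rw [← hρ]; simp
      exact (map_eq_zero θ).1 h0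
    obtain ⟨φ, hφ, h1, h2, -⟩ := exists_lift_dg hS hF hT fr' (ρ ^ 2) (pow_ne_zero 2 hρ0)
    have hW := lift_W hT fr' hD hφ (fun v => by rw [h1]; exact Subtype.coe_prop _) h2
    obtain ⟨α, hα, hαe⟩ := exists_back' c hφ hW co.y_mem hyV hyW
    obtain ⟨g, ψ, hg⟩ := hnf α hα
    have hg' := (isAct_iff co g ψ α).1 hg
    -- the action on `D`
    have hαD : ∀ v : K, α (pt co (0, v, 0)) = pt co (0, r * v, 0) := by
      intro v
      have e0 : ∀ v : K, ((pt co (0, v, 0) : V) : Ω) = co.xc v := fun v => by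
        show co.xb 0 * co.xc v * co.xd 0 = _
        rw [xb_zero, xd_zero, one_mul, mul_one]
      have e1 : co.y * co.xc v * co.y⁻¹ = co.xd (θ v) := by rw [hyi, co.yc]
      have e3 : ((pt co (0, 0, θ v) : V) : Ω) = co.xd (θ v) := by
        show co.xb 0 * co.xc 0 * co.xd (θ v) = _
        rw [xb_zero, xc_zero, one_mul, one_mul]
      have e1' : co.y * ((pt co (0, v, 0) : V) : Ω) * co.y⁻¹ = ((pt co (0, 0, θ v) : V) : Ω) := by
        rw [e0, e1, e3]
      have e2 := hαe (pt co (0, v, 0)) (by rw [e1']; exact V_le_T c (Subtype.coe_prop _))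
      have e4 : φ ⟨co.y * ((pt co (0, v, 0) : V) : Ω) * co.y⁻¹, by rw [e1']; exact V_le_T c (Subtype.coe_prop _)⟩ =
          (((fr'.ρ.symm (dg (ρ ^ 2) (pow_ne_zero 2 hρ0)) : MulAut V) (pt co (0, 0, θ v)) : V) : Ω) := by
        rw [← h1]
        congr 1
        exact Subtype.ext e1'
      rw [e4, ← fr_dg ρ hρ0] at e2
      have e5 : (fr'.ρ.symm (fr (dg ρ hρ0)) : MulAut V) (pt co (0, 0, θ v)) = pt co (0, 0, ρ ^ 2 * θ v) := by
        have := hMP (dg ρ hρ0) (0, 0, θ v)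
        rw [actM_sl] at this
        rw [hM] at this
        simpa using this
      rw [e5] at e2
      apply Subtype.ext
      rw [e0]
      have e6 : ((pt co (0, 0, ρ ^ 2 * θ v) : V) : Ω) = co.xd (θ (r * v)) := by
        show co.xb 0 * co.xc 0 * co.xd (ρ ^ 2 * θ v) = _
        rw [xb_zero, xc_zero, one_mul, one_mul, map_mul, hρ]
      rw [e6] at e2
      have e7 : co.y * (co.y * ((α (pt co (0, v, 0)) : V) : Ω) * co.y⁻¹) * co.y⁻¹ =
          ((α (pt co (0, v, 0)) : V) : Ω) := by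
        have hy2 := co.y_sq
        calc co.y * (co.y * ((α (pt co (0, v, 0)) : V) : Ω) * co.y⁻¹) * co.y⁻¹ =
            (co.y * co.y) * ((α (pt co (0, v, 0)) : V) : Ω) * (co.y * co.y)⁻¹ := by group
          _ = _ := by rw [hy2]; group
      rw [← e7, e2, hyi, ← co.yc]
      have hy2 := co.y_sq
      calc co.y * (co.y * co.xc (r * v) * co.y) * co.y = (co.y * co.y) * co.xc (r * v) * (co.y * co.y) := by group
        _ = _ := by rw [hy2]; group
    have hdet : ∀ v : K, (g 0 0 * g 1 1 + g 0 1 * g 1 0) * ψ v = r * v := by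
      intro v
      have h3 := hg' (0, v, 0)
      rw [hαD] at h3
      have h4 := pt_inj co h3
      have h5 := congrArg (fun X : K × K × K => X.2.1) h4
      simp only [act, map_zero, mul_zero, add_zero, zero_add] at h5
      exact h5.symm
    have hr1 : g 0 0 * g 1 1 + g 0 1 * g 1 0 = r := by
      have := hdet 1
      rwa [map_one, mul_one, mul_one] at this
    have hψ : ψ = 1 := by
      apply RingEquiv.ext
      intro v
      have := hdet v
      rw [hr1] at this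
      exact mul_left_cancel₀ hr this
    rw [hψ] at hg
    exact ⟨g, α, hα, hg, hr1⟩
  have hgl : ∀ g : GL (Fin 2) K, ∃ α ∈ F.autGroup V, IsAct co g 1 α := by
    intro g
    have hdet : g 0 0 * g 1 1 + g 0 1 * g 1 0 ≠ 0 := by
      have h1 : (g : Matrix (Fin 2) (Fin 2) K).det ≠ 0 := g.det_ne_zero
      rw [Matrix.det_fin_two, sub_eq_add_neg, CharTwo.neg_eq] at h1
      exact h1
    obtain ⟨g', α, hα, hact, hdet'⟩ := hgl1 _ hdet
    -- `g = s g'` with `s ∈ SL₂`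
    have hs : ((g * g'⁻¹ : GL (Fin 2) K) : Matrix (Fin 2) (Fin 2) K).det = 1 := by
      have h1 : (g : Matrix (Fin 2) (Fin 2) K).det = (g' : Matrix (Fin 2) (Fin 2) K).det := by
        rw [Matrix.det_fin_two, Matrix.det_fin_two, sub_eq_add_neg, sub_eq_add_neg, CharTwo.neg_eq, CharTwo.neg_eq]
        exact hdet'.symm
      have h2 : ((g * g'⁻¹ : GL (Fin 2) K) : Matrix (Fin 2) (Fin 2) K) * (g' : Matrix (Fin 2) (Fin 2) K) = g := by
        rw [← Units.val_mul, inv_mul_cancel_right]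
      have h3 := congrArg Matrix.det h2
      rw [Matrix.det_mul, h1] at h3
      exact mul_right_cancel₀ g'.det_ne_zero (by rw [one_mul]; exact h3)
    set s : SpecialLinearGroup (Fin 2) K := ⟨_, hs⟩ with hsdef
    refine ⟨M s * α, Subgroup.mul_mem _ (hMF s) hα, (isAct_iff co g 1 _).2 fun X => ?_⟩
    rw [MulAut.mul_apply, (isAct_iff co g' 1 α).1 hact, hMP, act_eq_actM, act_eq_actM, fm_one]
    congr 1
    rw [← actM_mul]
    have : (s : Matrix (Fin 2) (Fin 2) K) * (g' : Matrix (Fin 2) (Fin 2) K) = g := by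
      show ((g * g'⁻¹ : GL (Fin 2) K) : Matrix (Fin 2) (Fin 2) K) * (g' : Matrix (Fin 2) (Fin 2) K) = g
      rw [← Units.val_mul, inv_mul_cancel_right]
    rw [this]
  -- the field automorphisms
  have hact1 : ∀ (φ : K ≃+* K) X, act (1 : GL (Fin 2) K) φ X = fm φ X := by
    intro φ X
    rw [act_eq_actM]
    exact actM_one _
  let Φ : Subgroup (K ≃+* K) :=
    { carrier := {φ | ∃ α ∈ F.autGroup V, IsAct co 1 φ α}
      mul_mem' := by
        rintro φ ψ ⟨α, hα, h1⟩ ⟨β, hβ, h2⟩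
        refine ⟨α * β, Subgroup.mul_mem _ hα hβ, (isAct_iff co 1 _ _).2 fun X => ?_⟩
        rw [MulAut.mul_apply, (isAct_iff co 1 ψ β).1 h2, (isAct_iff co 1 φ α).1 h1, hact1, hact1, hact1]
        rfl
      one_mem' := ⟨1, Subgroup.one_mem _, (isAct_iff co 1 _ _).2 fun X => by rw [hact1]; rfl⟩
      inv_mem' := by
        rintro φ ⟨α, hα, h1⟩
        refine ⟨α⁻¹, Subgroup.inv_mem _ hα, (isAct_iff co 1 _ _).2 fun X => ?_⟩
        apply α.injective
        rw [(isAct_iff co 1 φ α).1 h1, hact1, hact1]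
        have h3 : fm φ (fm φ⁻¹ X) = X := fm_symm φ X
        rw [h3]
        exact α.apply_symm_apply _ }
  refine ⟨Φ, fun α => ⟨fun hα => ?_, ?_⟩⟩
  · obtain ⟨g, φ, h⟩ := hnf α hα
    refine ⟨g, φ, ?_, h⟩
    obtain ⟨β, hβ, h2⟩ := hgl g
    refine ⟨β⁻¹ * α, Subgroup.mul_mem _ (Subgroup.inv_mem _ hβ) hα, (isAct_iff co 1 _ _).2 fun X => ?_⟩
    apply β.injective
    rw [(isAct_iff co g 1 β).1 h2, hact1, act_eq_actM, fm_one]
    have h3 : β ((β⁻¹ * α) (pt co X)) = α (pt co X) := by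
      rw [MulAut.mul_apply]
      exact β.apply_symm_apply _
    rw [h3, (isAct_iff co g φ α).1 h, act_eq_actM]
  · rintro ⟨g, φ, ⟨β, hβ, h2⟩, h⟩
    obtain ⟨γ, hγ, h3⟩ := hgl g
    have : α = γ * β := by
      apply MulEquiv.ext
      intro v
      obtain ⟨X, rfl⟩ := pt_surj co v
      rw [(isAct_iff co g φ α).1 h, MulAut.mul_apply, (isAct_iff co 1 φ β).1 h2, (isAct_iff co g 1 γ).1 h3, hact1,
        act_eq_actM, act_eq_actM, fm_one]
    rw [this]
    exact Subgroup.mul_mem _ hγ hβ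

end Cfsg.Agent.H869.SP
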